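import Groth.Agent.Lib.PerfLim10.Main
import Groth.Agent.Lib.AbsApprox.RelMain
import Groth.Agent.Lib.DiagGrp.KernelFP

/-!
# A compact perfect scheme is the perfection of a finitely presented scheme over the prime field
-/

set_option autoImplicit false
set_option linter.all false
set_option backward.isDefEq.respectTransparency false
set_option maxHeartbeats 1000000

universe u

open CategoryTheory CategoryTheory.Limits AlgebraicGeometry Opposite TopologicalSpace
open GrothLib.PerfLim10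

noncomputable section

namespace GrothLib.PerfModel10

variable (p : ℕ)

/-- The spectrum of the prime field. -/
abbrev base : Scheme.{u} := Spec (CommRingCat.of (ULift.{u} (ZMod p)))

theorem hom_base_ext {T : Scheme.{u}} (a b : T ⟶ base.{u} p) : a = b := by
  obtain ⟨f, rfl⟩ : ∃ f, (ΓSpec.adjunction.homEquiv T (op (CommRingCat.of (ULift.{u} (ZMod p))))) f = a :=
    ⟨_, Equiv.apply_symm_apply _ _⟩
  obtain ⟨g, rfl⟩ : ∃ g, (ΓSpec.adjunction.homEquiv T (op (CommRingCat.of (ULift.{u} (ZMod p))))) g = b :=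
    ⟨_, Equiv.apply_symm_apply _ _⟩
  congr 1
  apply Quiver.Hom.unop_inj
  apply CommRingCat.hom_ext
  refine RingHom.ext fun x => ?_
  exact congrArg (fun r : ZMod p →+* _ => r x.down)
    (RingHom.ext_zmod (f.unop.hom.comp ULift.ringEquiv.symm.toRingHom) (g.unop.hom.comp ULift.ringEquiv.symm.toRingHom))

variable [Fact p.Prime]

theorem nonempty_hom_base (X : Scheme.{u}) [FrobSch.IsCharP X p] : Nonempty (X ⟶ base.{u} p) := by
  let φ : ZMod p →+* Γ(X, ⊤) :=
    ZMod.castHom (ringChar.dvd (FrobSch.natCast_eq_zero_app X p ⊤)) Γ(X, ⊤)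
  exact ⟨ΓSpec.adjunction.homEquiv X (op (CommRingCat.of (ULift.{u} (ZMod p))))
    (CommRingCat.ofHom (φ.comp ULift.ringEquiv.toRingHom)).op⟩

variable {p}

instance : FrobSch.IsCharP (base.{u} p) p := inferInstance

theorem cancel_fpow {Z Y : Scheme.{u}} [FrobSch.IsCharP Z p] [FrobSch.IsCharP Y p]
    (hZ : FrobSch.IsPerfect Z p) :
    ∀ (n : ℕ) (a b : Z ⟶ Y), a ≫ fpow p Y n = b ≫ fpow p Y n → a = b
  | 0, a, b, h => by simpa [fpow] using h
  | n + 1, a, b, h => by
    refine cancel_fpow hZ n a b ?_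
    haveI : IsIso (FrobSch.frob Z p) := hZ
    rw [← cancel_epi (FrobSch.frob Z p), FrobSch.frob_comp p (a ≫ fpow p Y n), FrobSch.frob_comp p (b ≫ fpow p Y n),
      Category.assoc, Category.assoc]
    exact h

/-- **A compact perfect scheme is the perfection of a scheme of finite presentation over the prime field.** -/
theorem exists_model (X : Scheme.{u}) [FrobSch.IsCharP X p] [CompactSpace X] [QuasiSeparatedSpace X]
    (hX : FrobSch.IsPerfect X p)
    (hc : ∀ (J : Type u) [SmallCategory J] [IsCofiltered J] (F : J ⥤ Scheme.{u})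
      [∀ j, FrobSch.IsCharP (F.obj j) p] (c : Cone F) [FrobSch.IsCharP c.pt p], IsLimit c →
      (∀ ⦃i j : J⦄ (a : i ⟶ j), IsAffineHom (F.map a)) →
      (∀ j, FrobSch.IsPerfect (F.obj j) p ∧ CompactSpace (F.obj j) ∧ QuasiSeparatedSpace (F.obj j)) →
      FrobSch.IsPerfect c.pt p → CompactSpace c.pt → QuasiSeparatedSpace c.pt →
      (∀ g : c.pt ⟶ X, ∃ (j : J) (gj : F.obj j ⟶ X), c.π.app j ≫ gj = g) ∧
      (∀ (j : J) (g g' : F.obj j ⟶ X), c.π.app j ≫ g = c.π.app j ≫ g' →
        ∃ (k : J) (a : k ⟶ j), F.map a ≫ g = F.map a ≫ g')) :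
    ∃ (X0 : Scheme.{u}) (s : X0 ⟶ base.{u} p) (_ : LocallyOfFinitePresentation s)
      (_ : CompactSpace X0) (_ : QuasiSeparatedSpace X0) (π : X ⟶ X0), FrobSch.IsPerfection π p := by
  obtain ⟨f⟩ := nonempty_hom_base p X
  obtain ⟨I, _, _, _, D, π, hl, hD, hDa, hπa⟩ := AbsApprox.exists_rel_approx f
  let D' := D ⋙ Over.forget (base.{u} p)
  let cD := (Over.forget (base.{u} p)).mapCone (Cone.mk (Over.mk f) π)
  have hcD : IsLimit cD := isLimitOfPreserves (Over.forget _) hl
  haveI : ∀ i, FrobSch.IsCharP (D'.obj i) p := fun i => FrobSch.IsCharP.of_hom (D.obj i).hom p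
  -- perfections of the stages
  choose P hPc pr hpr using fun i => exists_perfection p (D'.obj i)
  choose Pm hPm using fun (i j : Iᵒᵖ) (a : i ⟶ j) =>
    ((hpr j).2 (P i) (hpr i).1).2 (pr i ≫ D'.map a)
  dsimp at hPm
  let F : Iᵒᵖ ⥤ Scheme.{u} :=
    { obj := P
      map := fun {i j} a => Pm i j a
      map_id := fun i => ((hpr i).2 (P i) (hpr i).1).1 (by
        show Pm i i (𝟙 i) ≫ pr i = 𝟙 (P i) ≫ pr i
        rw [hPm, D'.map_id, Category.comp_id, Category.id_comp])
      map_comp := fun {i j l} a b => ((hpr l).2 (P i) (hpr i).1).1 (by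
        show Pm i l (a ≫ b) ≫ pr l = (Pm i j a ≫ Pm j l b) ≫ pr l
        rw [Category.assoc, hPm, hPm, reassoc_of% (hPm i j a), D'.map_comp]) }
  haveI : ∀ i, FrobSch.IsCharP (F.obj i) p := hPc
  haveI hint : ∀ i, IsIntegralHom (pr i) := fun i => Frob.isIntegralHom_of_isPerfection (hpr i)
  haveI : ∀ i, IsAffineHom (pr i) := fun i => inferInstance
  haveI : ∀ i j (a : i ⟶ j), IsAffineHom (F.map a) := fun i j a => by
    haveI : IsAffineHom (D'.map a) := hDa i j a
    have h : IsAffineHom (Pm i j a ≫ pr j) := by rw [hPm]; infer_instance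
    exact MorphismProperty.of_postcomp (W := @IsAffineHom) (W' := @IsSeparated) (Pm i j a) (pr j) inferInstance h
  have hPtop : ∀ i, FrobSch.IsPerfect (F.obj i) p ∧ CompactSpace (F.obj i) ∧ QuasiSeparatedSpace (F.obj i) :=
    fun i => by
      haveI : CompactSpace (D'.obj i) := (hD i).2.2.2.1
      haveI : QuasiSeparatedSpace (D'.obj i) := (hD i).2.2.2.2
      exact ⟨(hpr i).1, QuasiCompact.compactSpace_of_compactSpace (pr i),
        quasiSeparatedSpace_of_quasiSeparated (pr i)⟩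
  -- the limit of the perfections is perfect and equals `X`
  haveI := LimStage.hasLimit_affineTransition F
  let c := limit.cone F
  have hcl : IsLimit c := limit.isLimit F
  obtain ⟨i₀⟩ : Nonempty Iᵒᵖ := inferInstance
  haveI : FrobSch.IsCharP c.pt p := FrobSch.IsCharP.of_hom (show c.pt ⟶ P i₀ from c.π.app i₀) p
  have hfrob : ∀ i, IsIso (FrobSch.frob (F.obj i) p) := fun i => (hpr i).1
  let sσ : Cone F :=
    { pt := c.pt
      π :=
        { app := fun i => c.π.app i ≫ inv (FrobSch.frob (F.obj i) p)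
          naturality := fun i j a => by
            show 𝟙 c.pt ≫ c.π.app j ≫ inv (FrobSch.frob (F.obj j) p) = (c.π.app i ≫ inv (FrobSch.frob (F.obj i) p)) ≫ F.map a
            rw [Category.id_comp, ← cancel_mono (FrobSch.frob (F.obj j) p), Category.assoc, IsIso.inv_hom_id,
              Category.comp_id, Category.assoc, Category.assoc, ← FrobSch.frob_comp p (F.map a),
              IsIso.inv_hom_id_assoc, c.w] } }
  have hL : FrobSch.IsPerfect c.pt p := by
    refine ⟨hcl.lift sσ, hcl.hom_ext fun i => ?_, hcl.hom_ext fun i => ?_⟩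
    · rw [Category.assoc, hcl.fac, Category.id_comp]
      show FrobSch.frob c.pt p ≫ (show c.pt ⟶ F.obj i from c.π.app i) ≫ inv (FrobSch.frob (F.obj i) p) = c.π.app i
      rw [← Category.assoc, FrobSch.frob_comp, Category.assoc, IsIso.hom_inv_id, Category.comp_id]
    · rw [Category.assoc, Category.id_comp]
      show hcl.lift sσ ≫ FrobSch.frob c.pt p ≫ (show c.pt ⟶ F.obj i from c.π.app i) = c.π.app i
      rw [FrobSch.frob_comp, ← Category.assoc, hcl.fac]
      show (c.π.app i ≫ inv (FrobSch.frob (F.obj i) p)) ≫ FrobSch.frob (F.obj i) p = c.π.app i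
      rw [Category.assoc, IsIso.inv_hom_id, Category.comp_id]
  choose vi hvi using fun i => ((hpr i).2 X hX).2 (cD.π.app i : X ⟶ D'.obj i)
  dsimp at hvi
  let sv : Cone F :=
    { pt := X
      π :=
        { app := vi
          naturality := fun i j a => ((hpr j).2 X hX).1 (by
            show (𝟙 X ≫ vi j) ≫ pr j = (vi i ≫ Pm i j a) ≫ pr j
            rw [Category.id_comp, Category.assoc, hPm, reassoc_of% (hvi i), hvi]
            exact (cD.w a).symm) } }
  let sw : Cone D' :=
    { pt := c.pt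
      π :=
        { app := fun i => c.π.app i ≫ pr i
          naturality := fun i j a => by
            show 𝟙 c.pt ≫ c.π.app j ≫ pr j = (c.π.app i ≫ pr i) ≫ D'.map a
            rw [Category.id_comp, Category.assoc, ← hPm, ← c.w a, Category.assoc] } }
  let v₀ : X ⟶ c.pt := hcl.lift sv
  let w₀ : c.pt ⟶ X := hcD.lift sw
  have hw : ∀ i, w₀ ≫ cD.π.app i = c.π.app i ≫ pr i := fun i => hcD.fac sw i
  have hvw : v₀ ≫ w₀ = 𝟙 X := hcD.hom_ext fun i => by
    show (v₀ ≫ w₀) ≫ cD.π.app i = 𝟙 X ≫ cD.π.app i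
    rw [Category.assoc, hw, Category.id_comp, ← Category.assoc, hcl.fac]
    exact hvi i
  have hwv : w₀ ≫ v₀ = 𝟙 c.pt := hcl.hom_ext fun i => ((hpr i).2 c.pt hL).1 (by
    show ((w₀ ≫ v₀) ≫ c.π.app i) ≫ pr i = (𝟙 c.pt ≫ c.π.app i) ≫ pr i
    rw [Category.assoc w₀, hcl.fac, Category.assoc, Category.id_comp]
    show w₀ ≫ vi i ≫ pr i = _
    rw [hvi]
    exact hw i)
  haveI : IsIso w₀ := ⟨v₀, hwv, hvw⟩
  haveI : CompactSpace c.pt := QuasiCompact.compactSpace_of_compactSpace w₀
  haveI : QuasiSeparatedSpace c.pt := quasiSeparatedSpace_of_quasiSeparated w₀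
  obtain ⟨j, g, hg⟩ := (hc Iᵒᵖ F c hcl (fun i j a => inferInstance) hPtop hL inferInstance inferInstance).1 w₀
  let r : X ⟶ P j := v₀ ≫ c.π.app j
  have hrg : r ≫ g = 𝟙 X := by
    show (v₀ ≫ c.π.app j) ≫ g = 𝟙 X
    rw [Category.assoc, hg, hvw]
  -- the idempotent comes from a stage of the Frobenius tower
  let Y := D'.obj j
  let sY : Y ⟶ base.{u} p := (D.obj j).hom
  haveI : LocallyOfFinitePresentation sY := (hD j).1
  haveI : QuasiSeparated sY := (hD j).2.2.1
  haveI : CompactSpace Y := (hD j).2.2.2.1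
  haveI : QuasiSeparatedSpace Y := (hD j).2.2.2.2
  obtain ⟨c', hc', e', he'⟩ := exists_limit p Y (hpr j)
  let t : tower p Y ⟶ (Functor.const Idx.{u}).obj (base.{u} p) :=
    { app := fun _ => sY, naturality := fun _ _ _ => hom_base_ext p _ _ }
  obtain ⟨i, φ, hφ, -⟩ := Scheme.exists_π_app_comp_eq_of_locallyOfFinitePresentation (tower p Y) t sY c' hc'
    (e'.inv ≫ g ≫ r ≫ pr j) (by ext k; exact hom_base_ext p _ _)
  let n := i.unop.down
  let q : P j ⟶ Y := e'.hom ≫ c'.π.app i
  have hq0 : q ≫ fpow p Y n = pr j := by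
    have h := tower_w p Y c' 0 n (Nat.zero_le n)
    rw [Nat.sub_zero] at h
    show (e'.hom ≫ c'.π.app (st n)) ≫ fpow p Y n = pr j
    rw [Category.assoc, h]
    exact he'
  have hqφ : q ≫ φ = g ≫ r ≫ pr j := by
    show (e'.hom ≫ c'.π.app i) ≫ φ = _
    rw [Category.assoc, hφ, Iso.hom_inv_id_assoc]
  have hlift : ∀ (Z : Scheme.{u}) [FrobSch.IsCharP Z p], FrobSch.IsPerfect Z p →
      ∀ h : Z ⟶ Y, ∃ hh : Z ⟶ P j, hh ≫ q = h := fun Z _ hZ h => by
    obtain ⟨hh, hhh⟩ := ((hpr j).2 Z hZ).2 (h ≫ fpow p Y n)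
    dsimp at hhh
    refine ⟨hh, cancel_fpow hZ n _ _ ?_⟩
    rw [Category.assoc, hq0, hhh]
  -- the equaliser
  let Δ := pullback.diagonal sY
  let pair : Y ⟶ pullback sY sY := pullback.lift φ (fpow p Y n) (hom_base_ext p _ _)
  haveI : LocallyOfFinitePresentation Δ := DiagGrp.lfp_of_comp_of_lft Δ (pullback.fst sY sY)
    (by rw [pullback.diagonal_fst]; infer_instance) inferInstance
  let X0 := pullback Δ pair
  let ι : X0 ⟶ Y := pullback.snd Δ pair
  haveI : LocallyOfFinitePresentation ι := MorphismProperty.pullback_snd _ _ inferInstance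
  haveI : QuasiCompact ι := MorphismProperty.pullback_snd _ _ inferInstance
  haveI : Mono ι := inferInstance
  haveI : CompactSpace X0 := QuasiCompact.compactSpace_of_compactSpace ι
  haveI : QuasiSeparatedSpace X0 := quasiSeparatedSpace_of_quasiSeparated ι
  have hcond : (r ≫ q) ≫ φ = (r ≫ q) ≫ fpow p Y n := by
    rw [Category.assoc r q, Category.assoc r q, hq0, hqφ, ← Category.assoc r g, hrg, Category.id_comp]
  let π₀ : X ⟶ X0 := pullback.lift ((r ≫ q) ≫ φ) (r ≫ q) (by
    apply pullback.hom_ext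
    · simp [Δ, pair]
    · simpa [Δ, pair] using hcond)
  have hπ₀ : π₀ ≫ ι = r ≫ q := pullback.lift_snd _ _ _
  refine ⟨X0, ι ≫ sY, inferInstance, inferInstance, inferInstance, π₀, hX, fun Z _ hZ => ⟨fun a b hab => ?_, fun h₀ => ?_⟩⟩
  · have h1 : a ≫ r ≫ q = b ≫ r ≫ q := by
      rw [← hπ₀, ← Category.assoc, ← Category.assoc]
      exact congrArg (· ≫ ι) hab
    have h2 : (a ≫ r) ≫ pr j = (b ≫ r) ≫ pr j := by
      rw [← hq0]
      simp only [Category.assoc]
      rw [reassoc_of% h1]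
    have h3 : a ≫ r = b ≫ r := ((hpr j).2 Z hZ).1 h2
    rw [← Category.comp_id a, ← Category.comp_id b, ← hrg, ← Category.assoc, h3, Category.assoc]
  · obtain ⟨hh, hhh⟩ := hlift Z hZ (h₀ ≫ ι)
    have h1 : (h₀ ≫ ι) ≫ φ = (h₀ ≫ ι) ≫ fpow p Y n := by
      have e1 := congrArg (fun z => h₀ ≫ z ≫ pullback.fst sY sY) (pullback.condition (f := Δ) (g := pair))
      have e2 := congrArg (fun z => h₀ ≫ z ≫ pullback.snd sY sY) (pullback.condition (f := Δ) (g := pair))
      simp only [Δ, pair, Category.assoc, pullback.diagonal_fst, pullback.diagonal_snd, pullback.lift_fst,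
        pullback.lift_snd, Category.comp_id] at e1 e2
      rw [Category.assoc, Category.assoc]
      exact e1.symm.trans e2
    have h2 : hh ≫ g ≫ r = hh := ((hpr j).2 Z hZ).1 (by
      show (hh ≫ g ≫ r) ≫ pr j = hh ≫ pr j
      rw [Category.assoc, Category.assoc, ← hqφ, ← Category.assoc, hhh, h1, ← hhh, Category.assoc, hq0])
    refine ⟨hh ≫ g, ?_⟩
    show (hh ≫ g) ≫ π₀ = h₀
    rw [← cancel_mono ι, Category.assoc, hπ₀, Category.assoc, ← hhh]
    conv_rhs => rw [← h2]
    simp only [Category.assoc]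

end GrothLib.PerfModel10
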